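import Groth.Agent.LimMilnor.Site
import Groth.Agent.HDU.Cover
import Groth.Agent.CohQC.CechVanish
import Groth.Agent.CohQC.Relative
import Groth.Agent.QC.Closure
import Groth.Prelude.Def_Formal2

/-!
Cohomology of limits of formal systems of quasi-coherent modules.
-/

set_option autoImplicit false
set_option linter.style.haveILetI false
set_option backward.isDefEq.respectTransparency false
set_option backward.isDefEq.respectTransparency.types false
set_option maxHeartbeats 1000000

universe u

open CategoryTheory CategoryTheory.Limits Opposite TopologicalSpace AlgebraicGeometry Abelian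

namespace Groth.Agent.LimMilnor

variable {A : Type u} [CommRing A] {X : Scheme.{u}} [X.Over (Spec (CommRingCat.of A))]

instance preservesLimit_toSheaf (X : Scheme.{u}) :
    PreservesLimitsOfShape ℕᵒᵖ (SheafOfModules.toSheaf.{u} X.ringCatSheaf) := by
  haveI : PreservesLimitsOfShape ℕᵒᵖ (SheafOfModules.toSheaf.{u} X.ringCatSheaf ⋙ sheafToPresheaf _ AddCommGrpCat.{u}) :=
    inferInstanceAs (PreservesLimitsOfShape ℕᵒᵖ (SheafOfModules.forget.{u} X.ringCatSheaf ⋙ PresheafOfModules.toPresheaf _))
  exact preservesLimitsOfShape_of_reflects_of_preserves (SheafOfModules.toSheaf.{u} X.ringCatSheaf) (sheafToPresheaf _ AddCommGrpCat.{u})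

/-- sections over affines of a formal system surject -/
theorem surjective_trans {I : Ideal A} {G : ℕᵒᵖ ⥤ X.Modules} (hG : Formal2.IsQCohFormal I G) {U : X.Opens}
    (hU : IsAffineOpen U) (n : ℕ) :
    Function.Surjective (((G ⋙ SheafOfModules.toSheaf X.ringCatSheaf).map (homOfLE (Nat.le_succ n)).op).hom.app (op U)).hom := by
  obtain ⟨h, hiso⟩ := hG.2.2 n
  haveI := hiso
  haveI : Epi (G.map (homOfLE (Nat.le_succ n)).op) := by
    rw [← Limits.cokernel.π_desc (Formal.smulFamily (I ^ (n + 1)) (G.obj (op (n + 1))))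
      (G.map (homOfLE (Nat.le_succ n)).op) h]
    infer_instance
  exact QC.app_surjective_of_epi hU (hG.1 _) (hG.1 _) (G.map (homOfLE (Nat.le_succ n)).op)

theorem affines_cover (X : Scheme.{u}) (U : X.Opens) : ∃ (ι : Type u) (Y : ι → X.Opens) (f : ∀ i, Y i ⟶ U),
    Sieve.ofArrows Y f ∈ Opens.grothendieckTopology X U ∧ ∀ i, Y i ∈ {V : X.Opens | IsAffineOpen V} :=
  HDU.basis_cover _ X.isBasis_affineOpens U

theorem formal_milnor {I : Ideal A} {G : ℕᵒᵖ ⥤ X.Modules} (hG : Formal2.IsQCohFormal I G)
    (P : Sheaf (Opens.grothendieckTopology X) AddCommGrpCat.{u}) (i j : ℕ) (hji : j + 1 = i) :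
    (∀ ξ : ∀ n, Ext P (Coh.toAb (G.obj (op n))) i,
      (∀ n, extStep (G ⋙ SheafOfModules.toSheaf X.ringCatSheaf) P i n (ξ (n + 1)) = ξ n) →
      ∃ η : Ext P (limit (G ⋙ SheafOfModules.toSheaf X.ringCatSheaf)) i,
        ∀ n, η.comp (Ext.mk₀ (limit.π (G ⋙ SheafOfModules.toSheaf X.ringCatSheaf) (op n))) (add_zero i) = ξ n) ∧
    Nonempty ((AddMonoidHom.pi fun n =>
        (Ext.mk₀ (limit.π (G ⋙ SheafOfModules.toSheaf X.ringCatSheaf) (op n))).postcomp P (add_zero i)).ker ≃+
      Formal2.limOne (fun n => Ext P (Coh.toAb (G.obj (op n))) j)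
        (extStep (G ⋙ SheafOfModules.toSheaf X.ringCatSheaf) P j)) :=
  milnor_sequence (G ⋙ SheafOfModules.toSheaf X.ringCatSheaf) {V : X.Opens | IsAffineOpen V} (affines_cover X)
    (fun V hV n => surjective_trans hG hV n)
    (fun V hV n k hk => by
      obtain ⟨k, rfl⟩ := Nat.exists_eq_add_of_le' hk
      haveI : (G.obj (op n)).IsQuasicoherent := hG.1 n
      exact CohQC.hu_vanish_of_isAffineOpen (G.obj (op n)) hV k) P i j hji

theorem limit_acyclic {I : Ideal A} {G : ℕᵒᵖ ⥤ X.Modules} (hG : Formal2.IsQCohFormal I G) {U : X.Opens}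
    (hU : IsAffineOpen U) (p : ℕ) :
    Subsingleton (CohSite.HU (Coh.toAb (limit G)) (p + 1) U) := by
  letI := BrownDerived.smallDerived (Sheaf (Opens.grothendieckTopology X) AddCommGrpCat.{u})
  let F := G ⋙ SheafOfModules.toSheaf X.ringCatSheaf
  let K := fun n : ℕ => (DerivedCategory.singleFunctor (Sheaf (Opens.grothendieckTopology X) AddCommGrpCat.{u}) 0).obj (F.obj (op n))
  haveI : HasProduct K :=
    have := HDU.hasProduct_derived (A := Sheaf (Opens.grothendieckTopology X) AddCommGrpCat.{u}) (T := ULift.{u} ℕ) (fun n => K n.down)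
    hasLimit_of_iso (F := (Discrete.equivalence (Equiv.ulift.{u}.symm : ℕ ≃ ULift.{u} ℕ)).functor ⋙
        Discrete.functor fun n : ULift.{u} ℕ => K n.down)
      (Discrete.natIso fun _ => Iso.refl _)
  let t := fun n : ℕ => F.map (homOfLE (Nat.le_succ n)).op
  have h := (HDU.isRlim_single_limit (fun n => F.obj (op n)) t {V : X.Opens | IsAffineOpen V} (affines_cover X)
    (fun V hV q n => by
      haveI : (G.obj (op n)).IsQuasicoherent := hG.1 n
      exact CohQC.hu_vanish_of_isAffineOpen (G.obj (op n)) hV q)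
    (fun V hV => HDU.exists_limOne_of_eventually_surjective _ _ 0 fun n _ => surjective_trans hG hV n)).2 U hU p
  let eF : CohCx.opSequence (fun n => F.obj (op n)) t ≅ F :=
    NatIso.ofComponents (fun n => Iso.refl _) (fun {Y Z} g => by
      let η : CohCx.opSequence (fun n => F.obj (op n)) t ⟶ F :=
        NatTrans.ofOpSequence (fun n => 𝟙 _) fun n => by
          simp only [CohCx.opSequence, Functor.ofOpSequence_map_homOfLE_succ, Category.comp_id, Category.id_comp]
          rfl
      exact η.naturality g)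
  exact HDU.subsingleton_hu_of_iso (HasLimit.isoOfNatIso eF ≪≫ (preservesLimitIso (SheafOfModules.toSheaf X.ringCatSheaf) G).symm) (p + 1) U h

end Groth.Agent.LimMilnor
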