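import Groth.Agent.LimMilnor.Tri
import Groth.Agent.HDU.SingleLimit
import Groth.Agent.HDU.Site
import Groth.Agent.BrownDerived.Basic

/-!
The Milnor sequence for Ext into a limit of a tower of sheaves.
-/

set_option autoImplicit false
set_option linter.style.haveILetI false
set_option backward.isDefEq.respectTransparency false
set_option backward.isDefEq.respectTransparency.types false
set_option maxHeartbeats 1000000

universe v u

open CategoryTheory Category Limits Opposite DerivedCategory Abelian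

namespace Groth.Agent.LimMilnor

section Tower

variable {A : Type u} [Category.{v} A] [Abelian A] [HasDerivedCategory.{v} A] [HasExt.{v} A]

/-- maps of objects in degree zero into negative shifts vanish -/
lemma single_hom_neg (X Y : A) (m : ℤ) (hm : m < 0)
    (f : (singleFunctor A 0).obj X ⟶ ((singleFunctor A 0).obj Y)⟦m⟧) : f = 0 := by
  haveI : (((singleFunctor A 0).obj Y)⟦m⟧).IsGE (-m) := TStructure.t.isGE_shift _ 0 m (-m) (by omega)
  exact TStructure.t.zero f 0 (-m) (by omega)

lemma hom_postcomp (P : A) {F G : A} (g : F ⟶ G) (n : ℕ) (x : Ext P F n) :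
    Ext.homAddEquiv (x.comp (Ext.mk₀ g) (add_zero n)) =
      (Ext.homAddEquiv x : (singleFunctor A 0).obj P ⟶ _) ≫ ((singleFunctor A 0).map g)⟦(n : ℤ)⟧' := by
  show (x.comp (Ext.mk₀ g) (add_zero n)).hom = x.hom ≫ _
  rw [Ext.comp_hom, Ext.mk₀_hom, ShiftedHom.comp_mk₀]

/-- a compatible cone which is a limit gives the projections of the derived limit -/
theorem isRlimVia_π (F : ℕᵒᵖ ⥤ A) [HasLimit F]
    [HasProduct fun n => (singleFunctor A 0).obj (F.obj (op n))]
    (h : DCoh.IsRlim (fun n => (singleFunctor A 0).obj (F.obj (op n)))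
      (fun n => (singleFunctor A 0).map (F.map (homOfLE (Nat.le_succ n)).op)) ((singleFunctor A 0).obj (limit F))) :
    CohCx.IsRlimVia (fun n => (singleFunctor A 0).obj (F.obj (op n)))
      (fun n => (singleFunctor A 0).map (F.map (homOfLE (Nat.le_succ n)).op)) ((singleFunctor A 0).obj (limit F))
      (fun n => (singleFunctor A 0).map (limit.π F (op n))) := by
  obtain ⟨a, c, hc⟩ := h
  let b := fun n => a ≫ Pi.π (fun n => (singleFunctor A 0).obj (F.obj (op n))) n
  have hb : CohCx.IsRlimVia _ (fun n => (singleFunctor A 0).map (F.map (homOfLE (Nat.le_succ n)).op)) _ b := by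
    refine ⟨c, ?_⟩
    rwa [show Pi.lift b = a from Pi.hom_ext _ _ fun n => by simp [b]]
  let g := fun n => (singleFunctor A 0).preimage (b n)
  have hg : ∀ n, (singleFunctor A 0).map (g n) = b n := fun n => (singleFunctor A 0).map_preimage _
  have hcompat : ∀ n, g (n + 1) ≫ F.map (homOfLE (Nat.le_succ n)).op = g n := fun n =>
    (singleFunctor A 0).map_injective (by rw [Functor.map_comp, hg, hg]; exact HDU.compat_of_isRlimVia hb n)
  let γ : Cone F := ⟨limit F, NatTrans.ofOpSequence g fun n => by simp [hcompat n]⟩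
  let h₁ := limit.lift F γ
  have h₁π : ∀ n, h₁ ≫ limit.π F (op n) = g n := fun n => limit.lift_π γ (op n)
  obtain ⟨f, hf⟩ := HDU.exists_map_to_rlim hb (fun n => (singleFunctor A 0).map (limit.π F (op n)))
    (fun n => by rw [← Functor.map_comp, limit.w])
  let h₂ := (singleFunctor A 0).preimage f
  have h₂g : ∀ n, h₂ ≫ g n = limit.π F (op n) := fun n =>
    (singleFunctor A 0).map_injective (by rw [Functor.map_comp, hg, (singleFunctor A 0).map_preimage, hf])
  have e₂₁ : h₂ ≫ h₁ = 𝟙 _ := limit.hom_ext fun n => by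
    obtain ⟨n⟩ := n
    rw [Category.assoc, h₁π, h₂g, Category.id_comp]
  have e₁₂ : h₁ ≫ h₂ = 𝟙 _ := by
    rw [← sub_eq_zero]
    apply (singleFunctor A 0).map_injective
    rw [Functor.map_zero]
    let e := shiftFunctorZero (DerivedCategory A) ℤ
    have key := HDU.eq_zero_of_proj hb (P := (singleFunctor A 0).obj (limit F)) 0
      (fun z => ⟨0, fun n => by
        rw [single_hom_neg _ _ (0 - 1) (by omega) (z n)]; simp⟩)
      ((singleFunctor A 0).map (h₁ ≫ h₂ - 𝟙 _) ≫ e.inv.app _) (fun n => by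
        rw [Category.assoc]
        erw [← e.inv.naturality (b n)]
        rw [Functor.id_map, ← Category.assoc, ← hg, ← Functor.map_comp, Preadditive.sub_comp, Category.assoc,
          h₂g, h₁π, Category.id_comp, sub_self, Functor.map_zero, zero_comp])
    rw [← cancel_mono (e.inv.app _), zero_comp]
    exact key
  haveI : IsIso h₂ := ⟨h₁, e₂₁, e₁₂⟩
  haveI : IsIso f := by
    rw [← (singleFunctor A 0).map_preimage f]; infer_instance
  exact HDU.isRlimVia_of_iso hb f _ hf

variable (F : ℕᵒᵖ ⥤ A) [HasLimit F] [HasProduct fun n => (singleFunctor A 0).obj (F.obj (op n))]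
  (hL : CohCx.IsRlimVia (fun n => (singleFunctor A 0).obj (F.obj (op n)))
      (fun n => (singleFunctor A 0).map (F.map (homOfLE (Nat.le_succ n)).op)) ((singleFunctor A 0).obj (limit F))
      (fun n => (singleFunctor A 0).map (limit.π F (op n))))

/-- the transition maps on Ext -/
noncomputable abbrev extStep (P : A) (j : ℕ) (n : ℕ) : Ext P (F.obj (op (n + 1))) j →+ Ext P (F.obj (op n)) j :=
  (Ext.mk₀ (F.map (homOfLE (Nat.le_succ n)).op)).postcomp P (add_zero j)

include hL in
theorem exists_lift (P : A) (i : ℕ) (ξ : ∀ n, Ext P (F.obj (op n)) i) (hξ : ∀ n, extStep F P i n (ξ (n + 1)) = ξ n) :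
    ∃ η : Ext P (limit F) i, ∀ n, η.comp (Ext.mk₀ (limit.π F (op n))) (add_zero i) = ξ n := by
  obtain ⟨y, hy⟩ := HDU.exists_lift_rlim hL (i : ℤ) (fun n => Ext.homAddEquiv (ξ n)) fun n => by
    rw [← hom_postcomp]; exact congrArg _ (hξ n)
  refine ⟨Ext.homAddEquiv.symm y, fun n => Ext.homAddEquiv.injective ?_⟩
  rw [hom_postcomp, AddEquiv.apply_symm_apply]
  exact hy n

/-- isomorphic towers have isomorphic `lim¹` -/
theorem limOne_congr {G H : ℕ → Type v} [∀ n, AddCommGroup (G n)] [∀ n, AddCommGroup (H n)]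
    (t : ∀ n, G (n + 1) →+ G n) (s : ∀ n, H (n + 1) →+ H n) (e : ∀ n, G n ≃+ H n)
    (he : ∀ n x, e n (t n x) = s n (e (n + 1) x)) : Nonempty (Formal2.limOne G t ≃+ Formal2.limOne H s) := by
  let E : (∀ n, G n) ≃+ (∀ n, H n) := AddEquiv.piCongrRight e
  refine ⟨QuotientAddGroup.congr _ _ E ?_⟩
  rw [AddSubgroup.map_equiv_eq_comap_symm]
  ext y
  constructor
  · rintro ⟨x, hx⟩
    refine ⟨E x, ?_⟩
    refine Eq.trans ?_ ((congrArg E hx).trans (E.apply_symm_apply y))
    funext n
    exact (congrArg (fun z => e n (x n) - z) (he n _).symm).trans (map_sub (e n) _ _).symm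
  · rintro ⟨x, hx⟩
    refine ⟨E.symm x, E.injective ?_⟩
    refine Eq.trans ?_ ((E.apply_symm_apply y).symm)
    rw [← hx]
    funext n
    refine (map_sub (e n) _ _).trans ?_
    rw [he]
    show e n ((e n).symm (x n)) - s n (e (n + 1) ((e (n + 1)).symm (x (n + 1)))) = _
    rw [AddEquiv.apply_symm_apply, AddEquiv.apply_symm_apply]
    rfl

include hL in
theorem ker_equiv_ext (P : A) (j i : ℕ) (hji : j + 1 = i) :
    Nonempty ((AddMonoidHom.pi fun n => (Ext.mk₀ (limit.π F (op n))).postcomp P (add_zero i)).ker ≃+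
      Formal2.limOne (fun n => Ext P (F.obj (op n)) j) (extStep F P j)) := by
  obtain ⟨e⟩ := ker_equiv hL ((singleFunctor A 0).obj P) (j : ℤ) (i : ℤ) (by omega)
  obtain ⟨c⟩ := limOne_congr (G := fun n => Ext P (F.obj (op n)) j)
    (H := fun n => (singleFunctor A 0).obj P ⟶ ((singleFunctor A 0).obj (F.obj (op n)))⟦(j : ℤ)⟧) (extStep F P j) (fun n => Preadditive.rightComp ((singleFunctor A 0).obj P) (((singleFunctor A 0).map (F.map (homOfLE (Nat.le_succ n)).op))⟦(j : ℤ)⟧'))
    (fun n => Ext.homAddEquiv) fun n x => hom_postcomp P _ j x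
  let φ : Ext P (limit F) i ≃+ _ := Ext.homAddEquiv
  have hk : ((AddMonoidHom.pi fun n => (Ext.mk₀ (limit.π F (op n))).postcomp P (add_zero i)).ker).map φ.toAddMonoidHom =
      (AddMonoidHom.pi fun n => Preadditive.rightComp ((singleFunctor A 0).obj P)
        (((singleFunctor A 0).map (limit.π F (op n)))⟦(i : ℤ)⟧')).ker := by
    ext y
    constructor
    · rintro ⟨x, hx, rfl⟩
      refine AddMonoidHom.mem_ker.2 (funext fun n => ?_)
      exact (hom_postcomp P (limit.π F (op n)) i x).symm.trans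
        ((congrArg Ext.homAddEquiv (congrFun (AddMonoidHom.mem_ker.1 hx) n)).trans (map_zero _))
    · intro hy
      refine ⟨φ.symm y, AddMonoidHom.mem_ker.2 (funext fun n => Ext.homAddEquiv.injective ?_), φ.apply_symm_apply y⟩
      refine (hom_postcomp P (limit.π F (op n)) i (φ.symm y)).trans (Eq.trans ?_ (map_zero _).symm)
      rw [show Ext.homAddEquiv (φ.symm y) = y from φ.apply_symm_apply y]
      exact congrFun (AddMonoidHom.mem_ker.1 hy) n
  exact ⟨((φ.addSubgroupMap _).trans (AddEquiv.addSubgroupCongr hk)).trans (e.trans c.symm)⟩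

end Tower

variable {C : Type u} [SmallCategory C] {J : GrothendieckTopology C}

/-- the Milnor sequence for a tower of sheaves which are acyclic with surjective transition maps on a covering class -/
theorem milnor_sequence (F : ℕᵒᵖ ⥤ Sheaf J AddCommGrpCat.{u}) (B : Set C)
    (hB : ∀ U : C, ∃ (ι : Type u) (Y : ι → C) (f : ∀ i, Y i ⟶ U), Sieve.ofArrows Y f ∈ J U ∧ ∀ i, Y i ∈ B)
    (hsurj : ∀ V ∈ B, ∀ n : ℕ, Function.Surjective ((F.map (homOfLE (Nat.le_succ n)).op).hom.app (op V)).hom)
    (hvan : ∀ V ∈ B, ∀ (n i : ℕ), 0 < i → Subsingleton (CohSite.HU (F.obj (op n)) i V))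
    (P : Sheaf J AddCommGrpCat.{u}) (i j : ℕ) (hji : j + 1 = i) :
    (∀ ξ : ∀ n, Ext P (F.obj (op n)) i, (∀ n, extStep F P i n (ξ (n + 1)) = ξ n) →
      ∃ η : Ext P (limit F) i, ∀ n, η.comp (Ext.mk₀ (limit.π F (op n))) (add_zero i) = ξ n) ∧
    Nonempty ((AddMonoidHom.pi fun n => (Ext.mk₀ (limit.π F (op n))).postcomp P (add_zero i)).ker ≃+
      Formal2.limOne (fun n => Ext P (F.obj (op n)) j) (extStep F P j)) := by
  letI := BrownDerived.smallDerived (Sheaf J AddCommGrpCat.{u})
  let K := fun n : ℕ => (singleFunctor (Sheaf J AddCommGrpCat.{u}) 0).obj (F.obj (op n))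
  haveI : HasProduct K :=
    have := HDU.hasProduct_derived (A := Sheaf J AddCommGrpCat.{u}) (T := ULift.{u} ℕ) (fun n => K n.down)
    hasLimit_of_iso (F := (Discrete.equivalence (Equiv.ulift.{u}.symm : ℕ ≃ ULift.{u} ℕ)).functor ⋙
        Discrete.functor fun n : ULift.{u} ℕ => K n.down)
      (Discrete.natIso fun _ => Iso.refl _)
  let t := fun n : ℕ => F.map (homOfLE (Nat.le_succ n)).op
  obtain ⟨hR, -⟩ := HDU.isRlim_single_limit (fun n => F.obj (op n)) t B hB
    (fun U hU p n => hvan U hU n (p + 1) (Nat.succ_pos p))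
    (fun U hU => HDU.exists_limOne_of_eventually_surjective _ _ 0 fun n _ => hsurj U hU n)
  let eF : CohCx.opSequence (fun n => F.obj (op n)) t ≅ F :=
    NatIso.ofComponents (fun n => Iso.refl _) (fun {X Y} g => by
      let η : CohCx.opSequence (fun n => F.obj (op n)) t ⟶ F :=
        NatTrans.ofOpSequence (fun n => 𝟙 _) fun n => by
          simp only [CohCx.opSequence, Functor.ofOpSequence_map_homOfLE_succ, Category.comp_id, Category.id_comp]
          rfl
      exact η.naturality g)
  obtain ⟨a, c, hc⟩ := hR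
  have hR' : DCoh.IsRlim K (fun n => (singleFunctor _ 0).map (t n))
      ((singleFunctor (Sheaf J AddCommGrpCat.{u}) 0).obj (limit F)) := by
    let E := (singleFunctor (Sheaf J AddCommGrpCat.{u}) 0).mapIso (HasLimit.isoOfNatIso eF)
    refine ⟨E.inv ≫ a, c ≫ E.hom⟦(1 : ℤ)⟧', Pretriangulated.isomorphic_distinguished _ hc _ ?_⟩
    exact Pretriangulated.Triangle.isoMk _ _ E.symm (Iso.refl _) (Iso.refl _) (by simp) (by simp; rfl)
      (by simp [← Functor.map_comp])
  have hL := isRlimVia_π F hR'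
  exact ⟨exists_lift F hL P i, ker_equiv_ext F hL P j i hji⟩

/-- `lim¹` of a Mittag-Leffler tower vanishes -/
theorem limOne_eq_zero_of_ml {G : ℕ → Type u} [∀ n, AddCommGroup (G n)] (t : ∀ n, G (n + 1) →+ G n)
    (down : ∀ (n d : ℕ), G (n + d) →+ G n) (h0 : ∀ n x, down n 0 x = x)
    (h1 : ∀ n d x, down n (d + 1) x = down n d (t (n + d) x))
    (h : ∀ n, ∃ d, ∀ e, d ≤ e → Set.range (down n d) ⊆ Set.range (down n e)) :
    Subsingleton (Formal2.limOne G t) := by
  classical
  refine subsingleton_of_forall_eq 0 fun q => ?_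
  obtain ⟨z, rfl⟩ := QuotientAddGroup.mk_surjective q
  refine (QuotientAddGroup.eq_zero_iff _).2 ?_
  choose d₀ hd₀ using h
  have step : ∀ n e (x : G (n + 1 + e)) (y : G (n + (e + 1))), HEq x y → t n (down (n + 1) e x) = down n (e + 1) y := by
    intro n e
    induction e with
    | zero =>
      intro x y hxy
      obtain rfl := eq_of_heq hxy
      rw [h0, h1, h0]
      rfl
    | succ e ih =>
      intro x y hxy
      rw [h1, h1 n (e + 1)]
      refine ih _ _ ?_
      have key : ∀ (m m' : ℕ) (_ : m = m') (x : G (m + 1)) (y : G (m' + 1)), HEq x y → HEq (t m x) (t m' y) := by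
        rintro m m' rfl x y h
        obtain rfl := eq_of_heq h
        rfl
      exact key _ _ (by simp only [Nat.add_eq]; omega) x y hxy
  have ext : ∀ n e e', e ≤ e' → ∀ y : G (n + e'), ∃ y' : G (n + e), down n e y' = down n e' y := by
    intro n e e' he
    induction he with
    | refl => exact fun y => ⟨y, rfl⟩
    | step _ ih => exact fun y => (ih (t _ y)).imp fun y' hy' => hy'.trans (h1 _ _ y).symm
  let d : ℕ → ℕ := fun n => Nat.rec (d₀ 0) (fun k a => max (d₀ (k + 1)) a) n
  have hmono : ∀ n, d n ≤ d (n + 1) + 1 := fun n => (le_max_right (d₀ (n + 1)) (d n)).trans (Nat.le_succ _)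
  have hd0le : ∀ n, d₀ n ≤ d n := fun n => by
    cases n with
    | zero => exact le_rfl
    | succ k => exact le_max_left _ _
  have hd : ∀ n e, d n ≤ e → Set.range (down n (d n)) ⊆ Set.range (down n e) := fun n e he x hx => by
    obtain ⟨y, rfl⟩ := hx
    exact hd₀ n e ((hd0le n).trans he) (ext n (d₀ n) (d n) (hd0le n) y)
  let S : ∀ n, Set (G n) := fun n => Set.range (down n (d n))
  have hS : ∀ n e, d n ≤ e → ∀ x ∈ S n, ∃ y, down n e y = x := fun n e he x hx => hd n e he hx
  -- lifts within stable images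
  have lift : ∀ n, ∀ x ∈ S n, ∃ y ∈ S (n + 1), t n y = x := by
    intro n x hx
    obtain ⟨w, hw⟩ := hS n (max (d n) (d (n + 1) + 1)) (le_max_left _ _) x hx
    obtain ⟨w', hw'⟩ := ext n (d (n + 1) + 1) _ (le_max_right _ _) w
    refine ⟨down (n + 1) (d (n + 1)) ((show n + (d (n + 1) + 1) = n + 1 + d (n + 1) by omega) ▸ w'), ⟨_, rfl⟩, ?_⟩
    rw [step n (d (n + 1)) _ w' (eqRec_heq _ _), hw', hw]
  -- partial sums
  let σ : ∀ n, ℕ → (∀ m, G m) → G n := fun n D v => ∑ k ∈ Finset.range D, down n k (v (n + k))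
  let r : ∀ n, G n := fun n => σ n (d n) z
  have herr : ∀ n, z n - (r n - t n (r (n + 1))) ∈ S n := by
    intro n
    have tsum : t n (r (n + 1)) = ∑ k ∈ Finset.range (d (n + 1)), down n (k + 1) (z (n + (k + 1))) := by
      simp only [r, σ, map_sum]
      refine Finset.sum_congr rfl fun k _ => step n k _ _ ?_
      rw [show n + (k + 1) = n + 1 + k by omega]
    have hr : r n = ∑ k ∈ Finset.range (d n), down n k (z (n + k)) := rfl
    have hz : z n + t n (r (n + 1)) = ∑ k ∈ Finset.range (d (n + 1) + 1), down n k (z (n + k)) := by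
      rw [tsum, Finset.sum_range_succ', h0]
      exact add_comm _ _
    rw [show z n - (r n - t n (r (n + 1))) = (z n + t n (r (n + 1))) - r n by abel, hz, hr]
    have inS : ∀ k, d n ≤ k → ∀ v, down n k v ∈ AddMonoidHom.range (down n (d n)) := fun k hk v =>
      ext n (d n) k hk v
    rw [← Finset.sum_range_add_sum_Ico _ (hmono n), add_sub_cancel_left]
    exact sum_mem fun k hk => inS k (Finset.mem_Ico.1 hk).1 _
  -- successive corrections inside the stable images
  have hnext : ∀ n, ∀ x ∈ S n, ∃ y ∈ S (n + 1), x - t n y = z n - (r n - t n (r (n + 1))) := fun n x hx => by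
    obtain ⟨y, hy, hy'⟩ := lift n (x - (z n - (r n - t n (r (n + 1)))))
      ((AddMonoidHom.range (down n (d n))).sub_mem hx (herr n))
    exact ⟨y, hy, by rw [hy']; abel⟩
  choose g hg hg' using hnext
  let q : ∀ n, {x : G n // x ∈ S n} := fun n => Nat.rec (motive := fun k => {x : G k // x ∈ S k})
    ⟨0, ⟨0, map_zero _⟩⟩ (fun k x => ⟨g k x.1 x.2, hg k x.1 x.2⟩) n
  refine ⟨fun n => r n + (q n).1, funext fun n => ?_⟩
  show r n + (q n).1 - t n (r (n + 1) + (q (n + 1)).1) = z n
  rw [map_add, show t n ((q (n + 1)).1) = t n (g n (q n).1 (q n).2) from rfl]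
  have := hg' n (q n).1 (q n).2
  rw [show r n + (q n).1 - (t n (r (n + 1)) + t n (g n (q n).1 (q n).2)) =
    ((q n).1 - t n (g n (q n).1 (q n).2)) + (r n - t n (r (n + 1))) by abel, this]
  abel

end Groth.Agent.LimMilnor
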