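import Groth.Agent.HDU.Milnor
import Groth.Prelude.Def_Formal2

/-!
The Milnor sequence for morphisms into a derived limit.
-/

set_option autoImplicit false
set_option linter.style.haveILetI false
set_option backward.isDefEq.respectTransparency false

universe v u

open CategoryTheory Category Limits Pretriangulated

namespace Groth.Agent.LimMilnor

variable {T : Type u} [Category.{v} T] [Preadditive T] [HasZeroObject T] [HasShift T ℤ]
  [∀ n : ℤ, (shiftFunctor T n).Additive] [Pretriangulated T]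
  {K : ℕ → T} {t : ∀ n, K (n + 1) ⟶ K n} [HasProduct K] {L : T} {a : ∀ n, L ⟶ K n}

/-- postcomposition with the transition maps -/
noncomputable abbrev stepHom (t : ∀ n, K (n + 1) ⟶ K n) (P : T) (m : ℤ) (n : ℕ) :
    (P ⟶ (K (n + 1))⟦m⟧) →+ (P ⟶ (K n)⟦m⟧) :=
  Preadditive.rightComp P ((t n)⟦m⟧')

/-- the kernel of the projections is `lim¹` of the previous degree -/
theorem ker_equiv (hL : CohCx.IsRlimVia K t L a) (P : T) (j i : ℤ) (hji : j + 1 = i) :
    Nonempty ((AddMonoidHom.pi fun n => Preadditive.rightComp P ((a n)⟦i⟧')).ker ≃+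
      Formal2.limOne (fun n => P ⟶ (K n)⟦j⟧) (stepHom t P j)) := by
  obtain ⟨c, hc⟩ := hL
  have hlim := isLimitOfHasProductOfPreservesLimit (shiftFunctor T j) K
  let f : (∀ n, P ⟶ (K n)⟦j⟧) → (P ⟶ (∏ᶜ K)⟦j⟧) := fun z => hlim.lift (Fan.mk P z)
  have hf : ∀ z n, f z ≫ (Pi.π K n)⟦j⟧' = z n := fun z n => hlim.fac _ ⟨n⟩
  have hfext : ∀ g : P ⟶ (∏ᶜ K)⟦j⟧, f (fun n => g ≫ (Pi.π K n)⟦j⟧') = g := fun g =>
    HDU.shift_pi_hom_ext j fun n => hf _ n
  have hfadd : ∀ z w, f (z + w) = f z + f w := fun z w => HDU.shift_pi_hom_ext j fun n => by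
    rw [Preadditive.add_comp, hf, hf, hf]; rfl
  have hdiff : ∀ w, f w ≫ (HDU.oneSubShift K t)⟦j⟧' = f (Formal2.towerDiff _ (stepHom t P j) w) := fun w =>
    HDU.shift_pi_hom_ext j fun n => by
      rw [hf, Category.assoc, ← Functor.map_comp, Pi.lift_π, Functor.map_sub, Functor.map_comp,
        Preadditive.comp_sub, ← Category.assoc, hf, hf]
      rfl
  let e := shiftFunctorAdd' T 1 j i (by omega)
  let δ : (∀ n, P ⟶ (K n)⟦j⟧) →+ (P ⟶ L⟦i⟧) :=
    AddMonoidHom.mk' (fun z => f z ≫ c⟦j⟧' ≫ e.inv.app L) fun z w => by rw [hfadd, Preadditive.add_comp]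
  have hs := Triangle.shift_distinguished _ hc j
  have hsr := Triangle.shift_distinguished _ (rot_of_distTriang _ hc) j
  have hker : δ.ker = (Formal2.towerDiff _ (stepHom t P j)).range := by
    refine le_antisymm (fun z hz => ?_) ?_
    · have h0 : f z ≫ c⟦j⟧' = 0 := by
        rw [← cancel_mono (e.inv.app L), Category.assoc, zero_comp]; exact hz
      obtain ⟨g, hg⟩ := Triangle.coyoneda_exact₃ _ hs (f z) (by
        change f z ≫ (j.negOnePow • (c⟦j⟧' ≫ (shiftFunctorComm T 1 j).hom.app L)) = 0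
        rw [Linear.comp_units_smul, reassoc_of% h0, zero_comp, smul_zero])
      change f z = g ≫ (j.negOnePow • (HDU.oneSubShift K t)⟦j⟧') at hg
      refine ⟨fun n => (j.negOnePow • g) ≫ (Pi.π K n)⟦j⟧', ?_⟩
      have h1 := hdiff fun n => (j.negOnePow • g) ≫ (Pi.π K n)⟦j⟧'
      rw [hfext, Linear.units_smul_comp, ← Linear.comp_units_smul, ← hg] at h1
      funext n
      rw [← hf (Formal2.towerDiff _ (stepHom t P j) _) n, ← h1, hf]
    · rintro _ ⟨w, rfl⟩
      show f _ ≫ c⟦j⟧' ≫ e.inv.app L = 0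
      have hvc : HDU.oneSubShift K t ≫ c = 0 := comp_distTriang_mor_zero₂₃ _ hc
      rw [← hdiff, Category.assoc, ← Functor.map_comp_assoc, hvc, Functor.map_zero, zero_comp, comp_zero]
  have hran : δ.range = (AddMonoidHom.pi fun n => Preadditive.rightComp P ((a n)⟦i⟧')).ker := by
    refine le_antisymm ?_ fun y hy => ?_
    · rintro _ ⟨z, rfl⟩
      refine AddMonoidHom.mem_ker.2 (funext fun n => ?_)
      show (f z ≫ c⟦j⟧' ≫ e.inv.app L) ≫ (a n)⟦i⟧' = 0
      have hca : c ≫ (a n)⟦(1 : ℤ)⟧' = 0 := by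
        have h : c ≫ (-(Pi.lift a)⟦(1 : ℤ)⟧') = 0 := comp_distTriang_mor_zero₂₃ _ (rot_of_distTriang _ hc)
        have h' := congrArg (· ≫ (Pi.π K n)⟦(1 : ℤ)⟧') h
        simp only [Preadditive.comp_neg, Preadditive.neg_comp, neg_eq_zero, Category.assoc, ← Functor.map_comp,
          Pi.lift_π, zero_comp] at h'
        exact h'
      have hn := e.inv.naturality (a n)
      dsimp at hn
      rw [Category.assoc, Category.assoc, ← hn, ← Functor.map_comp_assoc, hca, Functor.map_zero, zero_comp,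
        comp_zero]
    · have hy' : ∀ n, y ≫ (a n)⟦i⟧' = 0 := fun n => congrFun (AddMonoidHom.mem_ker.1 hy) n
      have hy0 : y ≫ (Pi.lift a)⟦i⟧' = 0 := HDU.shift_pi_hom_ext i fun n => by
        rw [Category.assoc, ← Functor.map_comp, Pi.lift_π, hy', zero_comp]
      obtain ⟨z, hz⟩ := Triangle.coyoneda_exact₃ _ hsr (y ≫ e.hom.app L) (by
        change (y ≫ e.hom.app L) ≫ (j.negOnePow • ((shiftFunctor T j).map (-(Pi.lift a)⟦(1 : ℤ)⟧') ≫
          (shiftFunctorComm T 1 j).hom.app (∏ᶜ K))) = 0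
        have hn := e.hom.naturality (Pi.lift a)
        dsimp at hn
        rw [Linear.comp_units_smul, Functor.map_neg, Preadditive.neg_comp, Preadditive.comp_neg,
          Category.assoc y, ← Category.assoc (e.hom.app L), ← hn, Category.assoc, ← Category.assoc y, hy0, zero_comp,
          neg_zero, smul_zero])
      change y ≫ e.hom.app L = z ≫ (j.negOnePow • c⟦j⟧') at hz
      refine ⟨fun n => (j.negOnePow • z) ≫ (Pi.π K n)⟦j⟧', ?_⟩
      show f _ ≫ c⟦j⟧' ≫ e.inv.app L = y
      rw [hfext, Linear.units_smul_comp, ← Linear.comp_units_smul, ← Linear.units_smul_comp, ← Category.assoc,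
        ← hz, Category.assoc, Iso.hom_inv_id_app, Category.comp_id]
  exact ⟨((AddEquiv.addSubgroupCongr hran).symm.trans (QuotientAddGroup.quotientKerEquivRange δ).symm).trans
    (QuotientAddGroup.quotientAddEquivOfEq hker)⟩

end Groth.Agent.LimMilnor
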